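import Cfsg.Agent.Lib.Helper14.MinIdx.Defs

set_option autoImplicit false

/-! Lifts of elements of the point stabiliser `P_c` to a complement of `E^c` (for S2140). -/

namespace Cfsg.Agent.Lib.Helper14.MinIdx

open Matrix Cfsg.Agent.Lib.Helper57.RootSL

variable {n : ℕ} {F : Type*} [Field F]

/-- `x` is an element of `H` in the coset `E^c g`. -/
def Lift (H : Subgroup (SpecialLinearGroup (Fin n) F)) (c : Fin n → F)
    (g x : SpecialLinearGroup (Fin n) F) : Prop :=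
  x ∈ H ∧ ∃ ρ : Fin n → F, ρ ⬝ᵥ c = 0 ∧ x = tv c ρ * g

lemma smul_vecMul_inv_dot {c : Fin n → F} {g : SpecialLinearGroup (Fin n) F} {δ : F}
    (hg : (g : Matrix (Fin n) (Fin n) F) *ᵥ c = δ • c) {ρ : Fin n → F} (hρ : ρ ⬝ᵥ c = 0) :
    (δ • (ρ ᵥ* ((g⁻¹ : SpecialLinearGroup (Fin n) F) : Matrix (Fin n) (Fin n) F))) ⬝ᵥ c = 0 := by
  have h := dot_conj g c ρ
  rw [hg, hρ, dotProduct_smul] at h
  rw [smul_dotProduct]
  exact h

lemma mul_tv_eq {c : Fin n → F} {g : SpecialLinearGroup (Fin n) F} {δ : F}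
    (hg : (g : Matrix (Fin n) (Fin n) F) *ᵥ c = δ • c) {ρ : Fin n → F} (hρ : ρ ⬝ᵥ c = 0) :
    g * tv c ρ = tv c (δ • (ρ ᵥ* ((g⁻¹ : SpecialLinearGroup (Fin n) F) : Matrix (Fin n) (Fin n) F))) * g := by
  have h := conj_tv g hρ
  rw [hg, tv_smul] at h
  rw [← h]
  group

lemma Lift.mul {H : Subgroup (SpecialLinearGroup (Fin n) F)} {c : Fin n → F}
    {g g' x x' : SpecialLinearGroup (Fin n) F} {δ : F} (hg : (g : Matrix (Fin n) (Fin n) F) *ᵥ c = δ • c)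
    (hx : Lift H c g x) (hx' : Lift H c g' x') : Lift H c (g * g') (x * x') := by
  obtain ⟨hxH, ρ, hρ, rfl⟩ := hx
  obtain ⟨hxH', ρ', hρ', rfl⟩ := hx'
  refine ⟨H.mul_mem hxH hxH', ρ + δ • (ρ' ᵥ* ((g⁻¹ : SpecialLinearGroup (Fin n) F) : Matrix (Fin n) (Fin n) F)), ?_, ?_⟩
  · rw [add_dotProduct, hρ, smul_vecMul_inv_dot hg hρ', add_zero]
  · rw [← tv_mul_center hρ (smul_vecMul_inv_dot hg hρ'), mul_assoc, mul_assoc,
      ← mul_assoc g, mul_tv_eq hg hρ', mul_assoc]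

lemma Lift.unique {H : Subgroup (SpecialLinearGroup (Fin n) F)} {c : Fin n → F}
    (hEH : ∀ ρ : Fin n → F, ρ ⬝ᵥ c = 0 → tv c ρ ∈ H → tv c ρ = 1)
    {g x x' : SpecialLinearGroup (Fin n) F}
    (hx : Lift H c g x) (hx' : Lift H c g x') : x = x' := by
  obtain ⟨hxH, ρ, hρ, rfl⟩ := hx
  obtain ⟨hxH', ρ', hρ', rfl⟩ := hx'
  have h1 : tv c ρ * g * (tv c ρ' * g)⁻¹ = tv c (ρ + -ρ') := by
    rw [← tv_mul_center hρ (by rw [neg_dotProduct, hρ', neg_zero]), ← tv_inv hρ']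
    group
  have h2 : tv c (ρ + -ρ') = 1 := by
    apply hEH _ (by rw [add_dotProduct, neg_dotProduct, hρ, hρ', neg_zero, add_zero])
    rw [← h1]
    exact H.mul_mem hxH (H.inv_mem hxH')
  rw [h2] at h1
  exact mul_inv_eq_one.mp h1

lemma Lift.comm {H : Subgroup (SpecialLinearGroup (Fin n) F)} {c : Fin n → F}
    (hEH : ∀ ρ : Fin n → F, ρ ⬝ᵥ c = 0 → tv c ρ ∈ H → tv c ρ = 1)
    {g g' x x' : SpecialLinearGroup (Fin n) F} {δ δ' : F} (hg : (g : Matrix (Fin n) (Fin n) F) *ᵥ c = δ • c)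
    (hg' : (g' : Matrix (Fin n) (Fin n) F) *ᵥ c = δ' • c) (hcomm : g * g' = g' * g)
    (hx : Lift H c g x) (hx' : Lift H c g' x') : x * x' = x' * x := by
  have h1 := Lift.mul hg hx hx'
  have h2 := Lift.mul hg' hx' hx
  rw [hcomm] at h1
  exact Lift.unique hEH h1 h2

/-- action of a lift on the centre. -/
lemma Lift.mulVec {H : Subgroup (SpecialLinearGroup (Fin n) F)} {c : Fin n → F}
    {g x : SpecialLinearGroup (Fin n) F} {δ : F} (hg : (g : Matrix (Fin n) (Fin n) F) *ᵥ c = δ • c)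
    (hx : Lift H c g x) : (x : Matrix (Fin n) (Fin n) F) *ᵥ c = δ • c := by
  obtain ⟨-, ρ, hρ, rfl⟩ := hx
  rw [Matrix.SpecialLinearGroup.coe_mul, ← mulVec_mulVec, hg, mulVec_smul, tv_mulVec hρ, hρ, zero_smul,
    add_zero]

/-- action of a lift on covectors vanishing at the centre. -/
lemma Lift.vecMul {H : Subgroup (SpecialLinearGroup (Fin n) F)} {c : Fin n → F}
    {g x : SpecialLinearGroup (Fin n) F} (hx : Lift H c g x) {f : Fin n → F} (hf : f ⬝ᵥ c = 0) :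
    f ᵥ* (x : Matrix (Fin n) (Fin n) F) = f ᵥ* (g : Matrix (Fin n) (Fin n) F) := by
  obtain ⟨-, ρ, hρ, rfl⟩ := hx
  rw [Matrix.SpecialLinearGroup.coe_mul, ← vecMul_vecMul, vecMul_tv hρ, hf, zero_smul, add_zero]

/-- a lift of a transvection fixing a covector `r` with `r c = 1` is a transvection. -/
lemma Lift.eq_tv {H : Subgroup (SpecialLinearGroup (Fin n) F)} {c y h0 r : Fin n → F}
    {x : SpecialLinearGroup (Fin n) F} (h0y : h0 ⬝ᵥ y = 0) (h0c : h0 ⬝ᵥ c = 0)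
    (hx : Lift H c (tv y h0) x) (hr : r ⬝ᵥ c = 1) (hrx : r ᵥ* (x : Matrix (Fin n) (Fin n) F) = r) :
    x = tv (y - (r ⬝ᵥ y) • c) h0 := by
  obtain ⟨-, ρ, hρ, rfl⟩ := hx
  rw [Matrix.SpecialLinearGroup.coe_mul, ← vecMul_vecMul, vecMul_tv hρ, hr, one_smul, vecMul_tv h0y,
    add_dotProduct] at hrx
  have e1 : ρ = -((r ⬝ᵥ y + ρ ⬝ᵥ y) • h0) := by
    have : r + (ρ + (r ⬝ᵥ y + ρ ⬝ᵥ y) • h0) = r + 0 := by rw [add_zero, ← add_assoc]; exact hrx
    exact eq_neg_of_add_eq_zero_left (add_left_cancel this)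
  have e2 : ρ ⬝ᵥ y = 0 := by
    rw [e1, neg_dotProduct, smul_dotProduct, h0y, smul_zero, neg_zero]
  rw [e2, add_zero] at e1
  have e3 : tv c ρ = tv (-(r ⬝ᵥ y) • c) h0 := by
    rw [tv_smul, e1, neg_smul]
  rw [e3, tv_mul_axis (by rw [dotProduct_smul, h0c, smul_zero]) h0y]
  congr 1
  rw [neg_smul]; abel

end Cfsg.Agent.Lib.Helper14.MinIdx
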